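import Mathlib
import Groth.Agent.Lib.Helper5.CA.GR2

set_option autoImplicit false
universe u v

open TensorProduct

namespace Groth.Agent.H5.FGSmooth

section general
variable (R : Type v) (K : Type u) [CommRing R] [IsNoetherianRing R] [Field K] [Algebra R K]
  [Algebra.FormallySmooth R K]

/-- a finitely generated subalgebra with fraction field `K` (formally smooth over `R`) is smooth
after inverting one nonzero element. -/
theorem exists_smooth_away (B : Subalgebra R K) [Algebra.FiniteType R B] [IsFractionRing B K] :
    ∃ g : B, g ≠ 0 ∧ Algebra.Smooth R (Localization.Away g) := by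
  haveI : Algebra.FinitePresentation R B := Algebra.FinitePresentation.of_finiteType.mp inferInstance
  have hcompl : (⊥ : Ideal B).primeCompl = nonZeroDivisors B := by
    ext x
    simp [Ideal.primeCompl, mem_nonZeroDivisors_iff_ne_zero]
  haveI : IsLocalization (⊥ : Ideal B).primeCompl K := by
    rw [hcompl]; infer_instance
  let e : K ≃ₐ[R] Localization.AtPrime (⊥ : Ideal B) :=
    (IsLocalization.algEquiv (⊥ : Ideal B).primeCompl K (Localization.AtPrime (⊥ : Ideal B))).restrictScalars R
  have hbot : (⟨⊥, Ideal.isPrime_bot⟩ : PrimeSpectrum B) ∈ Algebra.smoothLocus R B := by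
    show Algebra.FormallySmooth R (Localization.AtPrime (⊥ : Ideal B))
    exact Algebra.FormallySmooth.of_equiv e
  obtain ⟨_, ⟨g, rfl⟩, hg1, hg2⟩ := PrimeSpectrum.isTopologicalBasis_basic_opens.exists_subset_of_mem_open
    hbot Algebra.isOpen_smoothLocus
  refine ⟨g, ?_, Algebra.basicOpen_subset_smoothLocus_iff_smooth.mp hg2⟩
  rintro rfl
  simp at hg1

/-- the localization `B[1/g]` realised inside `K` is smooth. -/
theorem exists_smooth_subalgebra (B : Subalgebra R K) [Algebra.FiniteType R B] [IsFractionRing B K] :
    ∃ A : Subalgebra B K, Algebra.FiniteType R A ∧ Algebra.Smooth R A := by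
  obtain ⟨g, hg0, hsm⟩ := exists_smooth_away R K B
  have hS : Submonoid.powers g ≤ nonZeroDivisors B := by
    rw [Submonoid.powers_le]
    exact mem_nonZeroDivisors_of_ne_zero hg0
  let A := Localization.subalgebra K (Submonoid.powers g) hS
  let e : Localization.Away g ≃ₐ[R] A :=
    (IsLocalization.algEquiv (Submonoid.powers g) (Localization.Away g) A).restrictScalars R
  refine ⟨A, ?_, Algebra.Smooth.of_equiv e⟩
  haveI : Algebra.FinitePresentation R (Localization.Away g) := hsm.2
  haveI : Algebra.FiniteType R (Localization.Away g) := Algebra.FiniteType.of_finitePresentation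
  exact Algebra.FiniteType.equiv inferInstance e

end general


section packaging

/-- every element of `K` is a quotient of elements of the subalgebra generated by field
generators. -/
theorem isFractionRing_adjoin (R : Type v) (K : Type u) [CommRing R] [Field K] [Algebra R K]
    (s : Set K) (hs : Subfield.closure s = ⊤) :
    IsFractionRing (Algebra.adjoin R s) K := by
  apply IsFractionRing.of_field
  intro z
  have hz : z ∈ Subfield.closure s := hs ▸ Subfield.mem_top z
  obtain ⟨x, hx, y, hy, rfl⟩ := Subfield.mem_closure_iff.mp hz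
  have hle : Subring.closure s ≤ (Algebra.adjoin R s).toSubring :=
    Subring.closure_le.mpr Algebra.subset_adjoin
  exact ⟨⟨x, hle hx⟩, ⟨y, hle hy⟩, rfl⟩

theorem main14732 (K : Type u) [Field K] (p : ℕ) [Fact p.Prime] [CharP K p] (s : Finset K)
    (hs : Subfield.closure (↑s : Set K) = ⊤) :
    ∃ A : Subalgebra (⊥ : Subfield K) K, Algebra.FiniteType (⊥ : Subfield K) A ∧
      Algebra.Smooth (⊥ : Subfield K) A ∧ IsFractionRing A K := by
  haveI : PerfectField (⊥ : Subfield K) := Groth.Agent.H5.CoeffUniq.perfectField_bot K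
  haveI : Algebra.FormallySmooth (⊥ : Subfield K) K :=
    Groth.Agent.H5.CA.formallySmooth_of_perfectField _ K
  let B := Algebra.adjoin (⊥ : Subfield K) (↑s : Set K)
  haveI : Algebra.FiniteType (⊥ : Subfield K) B :=
    (Subalgebra.fg_iff_finiteType _).mp (Subalgebra.fg_adjoin_finset s)
  haveI : IsFractionRing B K := isFractionRing_adjoin _ K _ hs
  obtain ⟨A, hft, hsm⟩ := exists_smooth_subalgebra (⊥ : Subfield K) K B
  refine ⟨A.restrictScalars (⊥ : Subfield K), hft, hsm, ?_⟩
  exact (inferInstance : IsFractionRing A K)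

end packaging


section packaging0

theorem isFractionRing_int_bot (K : Type u) [Field K] [CharZero K] :
    IsFractionRing ℤ (⊥ : Subfield K) := by
  apply IsFractionRing.of_field
  intro z
  have hz : (z : K) ∈ (algebraMap ℚ K).fieldRange := by
    rw [← Subfield.bot_eq_of_charZero]; exact z.2
  obtain ⟨q, hq⟩ := hz
  refine ⟨q.num, q.den, ?_⟩
  apply Subtype.ext
  push_cast
  rw [← hq]
  simp only [eq_ratCast, eq_intCast]
  exact_mod_cast (Rat.num_div_den q).symm

theorem formallySmooth_int (K : Type u) [Field K] [CharZero K] : Algebra.FormallySmooth ℤ K := by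
  haveI : PerfectField (⊥ : Subfield K) := Groth.Agent.H5.CoeffUniq.perfectField_bot K
  haveI : Algebra.FormallySmooth (⊥ : Subfield K) K :=
    Groth.Agent.H5.CA.formallySmooth_of_perfectField _ K
  haveI := isFractionRing_int_bot K
  haveI : Algebra.FormallySmooth ℤ (⊥ : Subfield K) :=
    Algebra.FormallySmooth.of_isLocalization (nonZeroDivisors ℤ)
  exact Algebra.FormallySmooth.comp ℤ (⊥ : Subfield K) K

theorem main14731 (K : Type u) [Field K] [CharZero K] (s : Finset K)
    (hs : Subfield.closure (↑s : Set K) = ⊤) :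
    ∃ A : Subring K, Algebra.FiniteType ℤ A ∧ Algebra.Smooth ℤ A ∧ IsFractionRing A K := by
  haveI := formallySmooth_int K
  let B := Algebra.adjoin ℤ (↑s : Set K)
  haveI : Algebra.FiniteType ℤ B :=
    (Subalgebra.fg_iff_finiteType _).mp (Subalgebra.fg_adjoin_finset s)
  haveI : IsFractionRing B K := isFractionRing_adjoin _ K _ hs
  obtain ⟨A, hft, hsm⟩ := exists_smooth_subalgebra ℤ K B
  let e : ↥A ≃+* ↥A.toSubring :=
    { toFun := fun x => ⟨x.1, x.2⟩
      invFun := fun x => ⟨x.1, x.2⟩
      left_inv := fun _ => rfl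
      right_inv := fun _ => rfl
      map_mul' := fun _ _ => rfl
      map_add' := fun _ _ => rfl }
  let eA : ↥A ≃ₐ[ℤ] ↥A.toSubring :=
    AlgEquiv.ofRingEquiv (f := e) (fun n => by rw [eq_intCast, eq_intCast, map_intCast])
  refine ⟨A.toSubring, Algebra.FiniteType.equiv hft eA, Algebra.Smooth.of_equiv eA, ?_⟩
  exact (inferInstance : IsFractionRing A K)

end packaging0

end Groth.Agent.H5.FGSmooth
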